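import Groth.Agent.Lib.AttrBorel21.BorelGen
import Groth.Agent.Lib.AttrBorel21.BorelDisc
import Groth.Agent.Lib.AttrBorel21.CartanGen
import Groth.Agent.Lib.TorPts21.BorelNormalizer
import Groth.Agent.Lib.CentMT21.Basic
import Groth.Agent.Lib.FppfDesc19.Basic
import Groth.Agent.Lib.Semiab15.Torus

/-!
# Borel subgroups of arbitrary smooth connected groups are their own normalisers
-/

set_option autoImplicit false
set_option linter.style.haveILetI false
set_option linter.unusedSectionVars false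
set_option backward.isDefEq.respectTransparency.types false

universe u

open CategoryTheory Limits MonoidalCategory CartesianMonoidalCategory MonObj AlgebraicGeometry

noncomputable section

namespace Groth.Agent.BorelNorm21

open TorPts21

variable {k : Type u} [Field k] [IsAlgClosed k]

set_option maxHeartbeats 2000000 in
/-- Over an algebraically closed field a Borel subgroup is its own normaliser. -/
theorem exists_lift_of_normalizesSub_gen {G B : Over (Spec (CommRingCat.of k))} [GrpObj G] [GrpObj B]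
    [Smooth G.hom] [QuasiCompact G.hom] [ConnectedSpace ↥G.left] {b : B ⟶ G} (hB : Red.IsBorelOver k b)
    {X : Over (Spec (CommRingCat.of k))} (g : X ⟶ G) (hg : NormalizesSub b g) : ∃ f : X ⟶ B, f ≫ b = g := by
  obtain ⟨hbm, hbc, hBs, hBn, hBsol, -⟩ := id hB
  haveI := hbm
  haveI := hbc
  haveI := hBs
  haveI := hBn
  haveI : IsSeparated G.hom := AbRigid.isSeparated_of_grpObj G
  haveI : IsSeparated B.hom := AbRigid.isSeparated_of_grpObj B
  haveI : Mono b := Over.mono_of_mono_left b
  haveI : CompactSpace G.left := (quasiCompact_iff_compactSpace G.hom).1 inferInstance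
  haveI : CompactSpace B.left := b.left.isClosedEmbedding.compactSpace
  haveI : QuasiCompact B.hom := (quasiCompact_iff_compactSpace B.hom).2 inferInstance
  haveI := OrbitTop19.isReduced_of_smooth B.hom
  obtain ⟨Z, _, z, Q, _, q, hZ, hzc, hqm, hqs, hqf, hker, hQa, hQs, hQc⟩ := AttrBorel21.exists_centre_quotient G
  haveI := hzc
  haveI := hqm
  haveI := hqs
  haveI := hqf
  haveI := hQa
  haveI := hQs
  haveI := hQc
  obtain ⟨B', _, iB', hB', hiff⟩ := AttrBorel21.exists_borel_image hZ hker hB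
  haveI := hB'.1
  haveI := hB'.2.1
  haveI := hB'.2.2.1
  haveI : Mono iB' := Over.mono_of_mono_left iB'
  haveI := OrbitTop19.isReduced_of_smooth B'.hom
  obtain ⟨H, _, iH, pH, hiHm, hiHc, hHs, hpHm, hpHs, hpH⟩ := AttrBorel21.exists_image_gen (b ≫ q)
  haveI := hiHm
  haveI := hiHc
  haveI := hHs
  haveI := hpHm
  haveI := hpHs
  haveI : Mono iH := Over.mono_of_mono_left iH
  haveI := OrbitTop19.isReduced_of_smooth H.hom
  haveI : IsSeparated H.hom := AbRigid.isSeparated_of_grpObj H
  obtain ⟨l, hl⟩ := AttrBorel21.exists_lift_closed_of_pts iH iB' fun y' => by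
    obtain ⟨x, hx⟩ := AttrBorel21.exists_pt_lift q (y' ≫ iB')
    obtain ⟨y, hy⟩ := (hiff x).2 ⟨y', hx.symm⟩
    exact ⟨y ≫ pH, by rw [Category.assoc, hpH, ← Category.assoc, hy, hx]⟩
  obtain ⟨r, hr⟩ := AttrBorel21.exists_lift_closed_of_pts iB' iH fun h => by
    obtain ⟨y, rfl⟩ := AttrBorel21.exists_pt_lift pH h
    obtain ⟨y', hy'⟩ := (hiff (y ≫ b)).1 ⟨y, rfl⟩
    exact ⟨y', by rw [hy', Category.assoc, Category.assoc, hpH]⟩
  haveI : IsIso r := ⟨l, (cancel_mono iH).1 (by rw [Category.assoc, hl, hr, Category.id_comp]),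
    (cancel_mono iB').1 (by rw [Category.assoc, hr, hl, Category.id_comp])⟩
  haveI : IsIso r.left := inferInstanceAs (IsIso ((Over.forget _).map r))
  let pB : B ⟶ B' := pH ≫ r
  have hpB : pB ≫ iB' = b ≫ q := by rw [Category.assoc, hr, hpH]
  haveI : IsMonHom pB := BorelFix21.isMonHom_of_comp iB' pB (by rw [hpB]; infer_instance)
  haveI : Surjective pB.left := inferInstanceAs (Surjective (pH.left ≫ r.left))
  haveI : Flat pB.left := CentMT21.flat_left_of_surjective pB
  haveI : IsSeparated B'.hom := AbRigid.isSeparated_of_grpObj B'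
  haveI : QuasiCompact pB.left := CentMT21.quasiCompact_left pB
  haveI : Mono iB'.left := Over.mono_left_of_mono iB'
  haveI : Mono b.left := Over.mono_left_of_mono b
  have hgq : NormalizesSub iB' (g ≫ q) := fun X' x h' => by
    obtain ⟨X'', π, h, hπf, hπs, hπq, hh⟩ := FppfDesc19.exists_cover_lift pB h'
    obtain ⟨⟨h₁, e₁⟩, h₂, e₂⟩ := hg X'' (π ≫ x) h
    have e : h ≫ b ≫ q = π ≫ h' ≫ iB' := by rw [← hpB, ← Category.assoc, hh, Category.assoc]
    constructor
    · refine FppfDesc19.exists_lift_of_cover π iB' _ (h₁ ≫ pB) ?_ |>.imp fun _ h => h.symm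
      have e' := congrArg (· ≫ q) e₁
      simp only [MonObj.mul_comp, GrpObj.inv_comp, Category.assoc, e] at e'
      rw [Category.assoc, hpB]
      simp only [MonObj.comp_mul, GrpObj.comp_inv]
      exact e'.symm
    · refine FppfDesc19.exists_lift_of_cover π iB' _ (h₂ ≫ pB) ?_ |>.imp fun _ h => h.symm
      have e' := congrArg (· ≫ q) e₂
      simp only [MonObj.mul_comp, GrpObj.inv_comp, Category.assoc, e] at e'
      rw [Category.assoc, hpB]
      simp only [MonObj.comp_mul, GrpObj.comp_inv]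
      exact e'.symm
  obtain ⟨y', hy'⟩ := exists_lift_of_normalizesSub_closed hB' (g ≫ q) hgq
  obtain ⟨X', π, a, hπf, hπs, hπq, ha⟩ := FppfDesc19.exists_cover_lift pB y'
  haveI := hπf
  haveI := hπs
  haveI := hπq
  have hd : ((π ≫ g) * (a ≫ b)⁻¹) ≫ q = 1 := by
    rw [MonObj.mul_comp, GrpObj.inv_comp, Category.assoc, Category.assoc, ← hy', ← Category.assoc π y' iB', ← ha,
      Category.assoc, hpB, mul_inv_cancel]
  obtain ⟨w, hw, -⟩ := hker.exists_lift ((π ≫ g) * (a ≫ b)⁻¹) (toUnit X') (by rw [hd, Hom.one_def])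
  haveI : Mono η[B] := SplitMono.mono ⟨toUnit B, toUnit_unique _ _⟩
  obtain ⟨T, _, t, -, hT, -⟩ := AttrBorel21.exists_maxTorus_ge_gen (G := B) Semiab15.isTorus_unit η[B]
  have hTG := AttrBorel21.isMaxTorus_comp_borel_disc hB hT
  haveI := hTG.1
  obtain ⟨C, _, c, hcm, hcc, hciff⟩ := GrpTrans20.exists_centralizer (t ≫ b)
  haveI := hcm
  haveI := hcc
  have hC : Red.IsCentralizerOf (t ≫ b) c := ⟨inferInstance, Over.mono_of_mono_left c, hciff⟩
  obtain ⟨fC, hfC⟩ := AttrBorel21.exists_lift_centralizer_borel_gen hB t hTG hC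
  obtain ⟨zC, hzC⟩ := (hciff Z z).2 fun X'' x s => by
    have h := (hZ.2.2 Z z).1 ⟨𝟙 _, Category.id_comp _⟩ X'' x (s ≫ t ≫ b)
    simpa only [Category.comp_id] using h
  refine FppfDesc19.exists_lift_of_cover π b g ((w ≫ zC ≫ fC) * a) ?_
  rw [MonObj.mul_comp, Category.assoc, Category.assoc, hfC, hzC, hw, inv_mul_cancel_right]

end Groth.Agent.BorelNorm21
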