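import Groth.Agent.Lib.TorPts21.ParabolicNormalizer
import Groth.Agent.Lib.CartanT21.Iso
import Groth.Agent.Lib.CentMT21.Preimage
import Groth.Agent.S3025
import Groth.Agent.S5260

/-!
# Parabolic subgroups of reductive group schemes are their own normalisers
-/

set_option autoImplicit false
set_option linter.style.haveILetI false
set_option linter.unusedSectionVars false
set_option backward.isDefEq.respectTransparency.types false

universe u

open CategoryTheory Limits MonoidalCategory CartesianMonoidalCategory MonObj AlgebraicGeometry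

noncomputable section

namespace Groth.Agent.BorelNorm21

variable {S : Scheme.{u}} {G B : Over S} [GrpObj G] [GrpObj B]

/-- A subgroup with parabolic fibres is closed and is its own normaliser. -/
theorem isNormalizerOf_and_closed_parabolic (hG : Red.IsReductive G) [Smooth B.hom] (b : B ⟶ G) [IsMonHom b] [Mono b]
    (hB : ∀ s : S, Red.IsParabolicOver (AlgebraicClosure (S.residueField s)) ((Over.pullback (Red.geomPt s)).map b)) :
    Red.IsNormalizerOf b b ∧ IsClosedImmersion b.left ∧ ∀ s : S, _root_.IsConnected (B.hom.base ⁻¹' {s}) := by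
  haveI := hG.1
  haveI := hG.2.1
  have hBconn : ∀ s : S, _root_.IsConnected (B.hom.base ⁻¹' {s}) := fun s => by
    let g := Red.geomPt s
    haveI : IsAffine (Red.bc g G).left := (hG.2.2 s).1
    haveI : Smooth (Red.bc g G).hom := inferInstanceAs (Smooth (pullback.snd G.hom g))
    haveI : ConnectedSpace (Red.bc g G).left := (hG.2.2 s).2.2.1
    exact CentMT21.isConnected_fibre_of_geom s (TorPts21.connectedSpace_of_isParabolicOver (hB s))
  obtain ⟨hBsep, hBqc⟩ := Groth.Agent.S3025.result S B hBconn
  haveI := hBsep
  haveI := hBqc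
  obtain ⟨N, _, n, hN, hnc, hnl⟩ := Groth.Agent.S5260.result G B (fun s => by
    haveI : ConnectedSpace ↥(B.hom.base ⁻¹' {s}) := isConnected_iff_connectedSpace.1 (hBconn s)
    exact (B.hom.fiberHomeo s).symm.surjective.connectedSpace (B.hom.fiberHomeo s).symm.continuous) b
  haveI := hN.1
  haveI := hN.2.1
  haveI := hnc
  haveI := hnl
  obtain ⟨j, hj⟩ := (hN.2.2 B b).2 fun X' x h => by
    have := TorPts21.normalizesSub_lift b (𝟙 B) X' x h
    rwa [Category.id_comp] at this
  haveI : Mono (j ≫ n) := by rw [hj]; infer_instance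
  haveI : Mono j := mono_of_mono j n
  haveI : LocallyOfFiniteType N.hom := by rw [← Over.w n]; infer_instance
  haveI : IsIso j := by
    refine CartanT21.isIso_of_geom_fibres j fun s => ?_
    let g := Red.geomPt s
    haveI : Smooth (Red.bc g G).hom := inferInstanceAs (Smooth (pullback.snd G.hom g))
    haveI : IsAffine (Red.bc g G).left := (hG.2.2 s).1
    haveI : ConnectedSpace (Red.bc g G).left := (hG.2.2 s).2.2.1
    haveI : Mono ((Over.pullback g).map j) := Functor.map_mono _ _
    haveI : Mono ((Over.pullback g).map n) := Functor.map_mono _ _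
    obtain ⟨f, hf⟩ := TorPts21.exists_lift_of_normalizesSub_parabolic (hB s) ((Over.pullback g).map n)
      (TorPts21.normalizesSub_bc b g ((hN.2.2 N n).1 ⟨𝟙 _, Category.id_comp _⟩))
    have e : f ≫ (Over.pullback g).map j = 𝟙 _ := (cancel_mono ((Over.pullback g).map n)).1 (by
      rw [Category.assoc, ← Functor.map_comp, hj, hf, Category.id_comp])
    exact ⟨f, (cancel_mono ((Over.pullback g).map j)).1 (by rw [Category.assoc, e, Category.comp_id, Category.id_comp]), e⟩
  haveI : IsIso j.left := inferInstanceAs (IsIso ((Over.forget S).map j))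
  refine ⟨TorPts21.isNormalizerOf_self_of b fun X g hg => ?_, ?_, hBconn⟩
  · obtain ⟨z, hz⟩ := (hN.2.2 X g).2 hg
    exact ⟨z ≫ inv j, by rw [← hz, ← hj]; simp⟩
  · rw [← hj, Over.comp_left]
    infer_instance

end Groth.Agent.BorelNorm21
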